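import Groth.Agent.Depth.Change
import Mathlib.RingTheory.Regular.Flat
import Mathlib.RingTheory.Flat.FaithfullyFlat.Basic

/-! # Depth and flat base change -/

set_option autoImplicit false

universe u

open TensorProduct LocCoh RingTheory.Sequence Pointwise

namespace Groth.Agent.DepthFlat

variable (A B : Type u) [CommRing A] [CommRing B] [Algebra A B]

lemma isWeaklyRegular_of_faithfullyFlat [Module.FaithfullyFlat A B] :
    ∀ (rs : List A) (M : Type u) [AddCommGroup M] [Module A M],
      IsWeaklyRegular (B ⊗[A] M) rs → IsWeaklyRegular M rs := by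
  intro rs
  induction rs with
  | nil => intro M _ _ _; exact .nil A M
  | cons r rs ih =>
    intro M _ _ h
    rw [isWeaklyRegular_cons_iff] at h ⊢
    refine ⟨?_, ih _ ?_⟩
    · refine (Module.FaithfullyFlat.lTensor_injective_iff_injective A B (LinearMap.lsmul A M r)).1 ?_
      intro x y hxy
      refine h.1 ?_
      have : ∀ z : B ⊗[A] M, (LinearMap.lsmul A M r).lTensor B z = r • z := fun z => by
        induction z with
        | zero => simp
        | tmul b m => simp [TensorProduct.tmul_smul]
        | add u v hu hv => rw [map_add, hu, hv, smul_add]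
      simpa [this] using hxy
    · exact ((QuotSMulTop.tensorQuotSMulTopEquivQuotSMulTop r B M).isWeaklyRegular_congr rs).2 h.2

lemma map_smul_top_eq_top (I : Ideal A) (M : Type u) [AddCommGroup M] [Module A M]
    (h : I • (⊤ : Submodule A M) = ⊤) :
    I.map (algebraMap A B) • (⊤ : Submodule B (B ⊗[A] M)) = ⊤ := by
  rw [eq_top_iff]
  intro z _
  induction z with
  | zero => exact zero_mem _
  | add u v hu hv => exact add_mem (hu trivial) (hv trivial)
  | tmul b m =>
    have hm : m ∈ I • (⊤ : Submodule A M) := (by rw [h]; trivial)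
    refine Submodule.smul_induction_on hm (fun a ha m _ => ?_)
      (fun x y hx hy => by rw [TensorProduct.tmul_add]; exact add_mem hx hy)
    rw [TensorProduct.tmul_smul, ← IsScalarTower.algebraMap_smul B a]
    exact Submodule.smul_mem_smul (Ideal.mem_map_of_mem _ ha) Submodule.mem_top

theorem idealDepth_le_of_flat [IsNoetherianRing A] [Module.Flat A B] (I : Ideal A)
    (M : Type u) [AddCommGroup M] [Module A M] :
    idealDepth I M ≤ idealDepth (I.map (algebraMap A B)) (B ⊗[A] M) := by
  by_cases h : I • (⊤ : Submodule A M) = ⊤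
  · rw [Depth.idealDepth_eq_top (map_smul_top_eq_top A B I M h)]; exact le_top
  refine Depth.le_of_forall_imp fun n hn => ?_
  obtain ⟨rs, hl, hm, hw⟩ := (Depth.le_idealDepth_iff_exists h).1 hn
  have := hw.of_flat_of_isBaseChange (TensorProduct.isBaseChange A M B)
  rw [← hl, ← List.length_map (algebraMap A B)]
  refine Depth.le_idealDepth_of_isWeaklyRegular this ?_
  simpa using fun a ha => Ideal.mem_map_of_mem _ (hm a ha)

theorem idealDepth_eq_of_faithfullyFlat [IsNoetherianRing A] [IsNoetherianRing B] [Module.FaithfullyFlat A B]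
    (I : Ideal A) (M : Type u) [AddCommGroup M] [Module A M] [Module.Finite A M] :
    idealDepth (I.map (algebraMap A B)) (B ⊗[A] M) = idealDepth I M := by
  refine le_antisymm ?_ (idealDepth_le_of_flat A B I M)
  by_cases h : I.map (algebraMap A B) • (⊤ : Submodule B (B ⊗[A] M)) = ⊤
  · have : Subsingleton (B ⊗[A] (M ⧸ I • (⊤ : Submodule A M))) := by
      refine subsingleton_of_forall_eq 0 fun y => ?_
      obtain ⟨z, rfl⟩ := LinearMap.lTensor_surjective B (Submodule.mkQ_surjective _) y
      have hz : z ∈ I.map (algebraMap A B) • (⊤ : Submodule B (B ⊗[A] M)) := (by rw [h]; trivial)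
      show ((I • (⊤ : Submodule A M)).mkQ.baseChange B) z = 0
      rw [← LinearMap.mem_ker]
      refine (Submodule.smul_le.2 fun c hc w _ => ?_) hz
      rw [Ideal.map] at hc
      induction hc using Submodule.span_induction with
      | mem c hc =>
        obtain ⟨a, ha, rfl⟩ := hc
        rw [LinearMap.mem_ker, map_smul, algebraMap_smul]
        induction w with
        | zero => simp
        | add u v hu hv => rw [map_add, smul_add, hu trivial, hv trivial, add_zero]
        | tmul b m =>
          rw [LinearMap.baseChange_tmul, ← TensorProduct.tmul_smul, ← map_smul,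
            Submodule.mkQ_apply, (Submodule.Quotient.mk_eq_zero _).2
              (Submodule.smul_mem_smul ha Submodule.mem_top), TensorProduct.tmul_zero]
      | zero => simp
      | add x y _ _ hx hy => rw [add_smul]; exact add_mem hx hy
      | smul r x _ hx => rw [smul_eq_mul, mul_smul]; exact Submodule.smul_mem _ r hx
    have : Subsingleton (M ⧸ I • (⊤ : Submodule A M)) := by
      by_contra hne
      rw [not_subsingleton_iff_nontrivial] at hne
      exact false_of_nontrivial_of_subsingleton (B ⊗[A] (M ⧸ I • (⊤ : Submodule A M)))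
    rw [Depth.idealDepth_eq_top (Submodule.Quotient.subsingleton_iff.1 this)]
    exact le_top
  refine Depth.le_of_forall_imp fun n hn => ?_
  obtain ⟨rs, hl, hm, hw⟩ := Depth.exists_isWeaklyRegular_map n (B ⊗[A] M) hn h
  rw [isWeaklyRegular_map_algebraMap_iff] at hw
  exact hl ▸ Depth.le_idealDepth_of_isWeaklyRegular (isWeaklyRegular_of_faithfullyFlat A B rs M hw) hm

end Groth.Agent.DepthFlat
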